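import Groth.Agent.ProEtRecollLib.Main
import Groth.Agent.AdicPLib.Extension

/-! Adic pro-étale sheaves are stable under isomorphism. -/

set_option autoImplicit false
set_option linter.unusedSectionVars false
set_option linter.style.haveILetI false
set_option backward.isDefEq.respectTransparency false
set_option synthInstance.maxHeartbeats 400000
set_option maxHeartbeats 1000000
universe u

open CategoryTheory CategoryTheory.Limits AlgebraicGeometry Opposite

namespace Groth.Agent.ProEtRecollLib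

variable {Λ : Type (u + 1)} [CommRing Λ] {X : Scheme.{u}} [ProEtS.EpsCont X]

theorem isP_of_iso {I : Ideal Λ} {F G : EtModW.ModP Λ X} (e : F ≅ G) (h : AdicPLib.IsP I F) :
    AdicPLib.IsP I G := by
  obtain ⟨Q, p, hp, hc, hl⟩ := h
  refine ⟨Q, (Functor.const ℕᵒᵖ).map e.inv ≫ p, fun n => ⟨(hp n).1, fun Y φ hφ => ?_⟩, hc, ?_⟩
  · obtain ⟨ψ, hψ, hu⟩ := (hp n).2 Y (e.hom ≫ φ) fun d hd => by rw [← Linear.comp_smul, hφ d hd, comp_zero]
    refine ⟨ψ, ?_, fun ψ' hψ' => hu ψ' ?_⟩
    · show (e.inv ≫ p.app (op n)) ≫ ψ = φ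
      rw [Category.assoc, hψ, Iso.inv_hom_id_assoc]
    · show p.app (op n) ≫ ψ' = _
      rw [← hψ']
      show _ = e.hom ≫ (e.inv ≫ p.app (op n)) ≫ ψ'
      rw [Category.assoc, Iso.hom_inv_id_assoc]
  · haveI := hl
    have : limit.lift Q (Cone.mk _ ((Functor.const ℕᵒᵖ).map e.inv ≫ p)) = e.inv ≫ limit.lift Q (Cone.mk _ p) :=
      limit.hom_ext fun j => by simp
    rw [this]; infer_instance

/-- An adic sheaf on an open and on its closed complement is adic. -/
theorem isP_of_restrict (Λ : Type (u + 1)) [CommRing Λ] [IsNoetherianRing Λ] (a : Λ)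
    {U Z X : Scheme.{u}} [IsNoetherian X]
    (j : U ⟶ X) [IsOpenImmersion j] [QuasiCompact j] [hje : Etale j] [WeaklyEtale j]
    (i : Z ⟶ X) [IsClosedImmersion i]
    (hUZ : Set.range (fun z => i.base z) = (Set.range (fun t => j.base t))ᶜ)
    [ProEtS.EpsCont U] [ProEtS.EpsCont Z] [ProEtS.EpsCont X]
    [ProEtS.JPCont j] [ProEtS.PCont j] [ProEtS.PCont i]
    [(MorphismProperty.Over.map (P := EtCoh.etaleMP.{u}) ⊤ (f := j) hje).IsContinuous U.smallEtaleTopology X.smallEtaleTopology]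
    [((MorphismProperty.Over.map (P := EtCoh.etaleMP.{u}) ⊤ (f := j) hje).sheafPushforwardContinuous (ModuleCat.{u + 1} Λ) U.smallEtaleTopology X.smallEtaleTopology).IsRightAdjoint]
    (hext : ∀ E : EtModW.Mod Λ U, EtModW.IsConstructible Λ E →
      EtModW.IsConstructible Λ (((MorphismProperty.Over.map (P := EtCoh.etaleMP.{u}) ⊤ (f := j) hje).sheafPullback (ModuleCat.{u + 1} Λ) U.smallEtaleTopology X.smallEtaleTopology).obj E))
    (hpush : ∀ E : EtModW.Mod Λ Z, EtModW.IsConstructible Λ E →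
      EtModW.IsConstructible Λ ((EtModW.push Λ i).obj E))
    (F : EtModW.ModP Λ X) (hU : AdicPLib.IsP (Ideal.span {a}) ((pullPMod Λ j).obj F))
    (hZ : AdicPLib.IsP (Ideal.span {a}) ((pullPMod Λ i).obj F)) : AdicPLib.IsP (Ideal.span {a}) F := by
  obtain ⟨Q', p', hQ', hc', hl'⟩ := hZ
  have hr : Set.range j.base = (Set.range i.base)ᶜ := by
    rw [show Set.range i.base = (Set.range j.base)ᶜ from hUZ, compl_compl]
  obtain ⟨h0, hS⟩ := shortExact Λ i j hr F
  obtain ⟨R, r, hR, hRc, hRl⟩ := isP_of_iso ((restrPullIso Λ j).app F).symm hU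
  have h2 := EpsLib.isAdicP_extZero j (Ideal.span {a}) hext _ R r hR hRc hRl
  have hret : IsRetrocompact (Set.range (fun z => i.base z))ᶜ := fun W _ _ =>
    TopologicalSpace.NoetherianSpace.isCompact _
  have h3 := EpsLib.isAdicP_pushPMod i (Ideal.span {a}) hret hpush _ Q' p' hQ' hc' hl'
  exact AdicPLib.isP_extension a hS h2 h3

end Groth.Agent.ProEtRecollLib
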