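import Groth.Agent.WCSiteLib.Recollement
import Groth.Agent.EpsLib.ExtZeroMod
import Groth.Agent.EpsLib.PushMod
import Groth.Agent.EpsLib.ModImage
import Groth.Agent.S0730
import Mathlib.CategoryTheory.Adjunction.Unique
import Mathlib.Algebra.Homology.ShortComplex.ExactFunctor

/-! The recollement sequence for sheaves of modules on the small pro-étale site. -/

set_option autoImplicit false
set_option linter.unusedSectionVars false
set_option linter.style.haveILetI false
set_option backward.isDefEq.respectTransparency false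
set_option synthInstance.maxHeartbeats 400000
set_option maxHeartbeats 1000000
universe u

open CategoryTheory CategoryTheory.Limits AlgebraicGeometry Opposite

namespace Groth.Agent.ProEtRecollLib

open EpsLib

/-- Composition with a weakly étale morphism is continuous. -/
theorem jpCont {U X : Scheme.{u}} (j : U ⟶ X) [hj : WeaklyEtale j] : ProEtS.JPCont j := by
  haveI : PreservesLimitsOfShape WalkingCospan (Over.map j) := by
    haveI : PreservesLimitsOfShape WalkingCospan (Over.map j ⋙ Over.forget X) :=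
      preservesLimitsOfShape_of_natIso (NatIso.ofComponents (fun A => Iso.refl _) :
        Over.forget U ≅ Over.map j ⋙ Over.forget X)
    exact preservesLimitsOfShape_of_reflects_of_preserves (Over.map j) (Over.forget X)
  haveI : PreservesLimitsOfShape WalkingCospan (Scheme.ProEt.forget U ⋙ Over.map j) := inferInstance
  haveI : PreservesLimitsOfShape WalkingCospan (ProEtS.compP j ⋙ Scheme.ProEt.forget X) :=
    preservesLimitsOfShape_of_natIso (NatIso.ofComponents (fun V => Iso.refl _) :
      Scheme.ProEt.forget U ⋙ Over.map j ≅ ProEtS.compP j ⋙ Scheme.ProEt.forget X)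
  haveI : PreservesLimitsOfShape WalkingCospan (ProEtS.compP j) :=
    preservesLimitsOfShape_of_reflects_of_preserves (ProEtS.compP j) (Scheme.ProEt.forget X)
  haveI : ∀ S : Scheme.{u}, (Scheme.ProEt.precoverage S).IsStableUnderBaseChange := fun S =>
    inferInstanceAs ((Scheme.proetalePrecoverage.comap (Scheme.ProEt.forget S ⋙ Over.forget S)).IsStableUnderBaseChange)
  show (ProEtS.compP j).IsContinuous (Scheme.ProEt.precoverage U).toGrothendieck (Scheme.ProEt.precoverage X).toGrothendieck
  haveI : (Scheme.ProEt.precoverage U).PullbacksPreservedBy (ProEtS.compP j) := ⟨fun _ _ _ => inferInstance⟩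
  refine Functor.isContinuous_toGrothendieck_of_pullbacksPreservedBy _ _ _ fun V R hR => ?_
  obtain ⟨ι, W, g, rfl⟩ := Presieve.exists_eq_ofArrows R
  have hR' : Presieve.map (Scheme.ProEt.forget U ⋙ Over.forget U) (Presieve.ofArrows W g) ∈
      Scheme.proetalePrecoverage.{u} V.left := hR
  show Presieve.map (Scheme.ProEt.forget X ⋙ Over.forget X) (Presieve.map (ProEtS.compP j) (Presieve.ofArrows W g)) ∈
    Scheme.proetalePrecoverage.{u} V.left
  rw [Presieve.map_ofArrows] at hR'
  rw [Presieve.map_ofArrows, Presieve.map_ofArrows]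
  exact hR'

variable (Λ : Type (u + 1)) [CommRing Λ]

section Mod

variable {X Z U : Scheme.{u}} (i : Z ⟶ X) [IsClosedImmersion i] (j : U ⟶ X) [IsOpenImmersion j] [QuasiCompact j]
  [ProEtS.PCont i] [ProEtS.JPCont j] [ProEtS.PCont j]

/-- `j_!` on pro-étale sheaves of modules. -/
noncomputable abbrev extPMod : EtModW.ModP Λ U ⥤ EtModW.ModP Λ X :=
  (ProEtS.compP j).sheafPullback (ModuleCat.{u + 1} Λ) (Scheme.ProEt.topology U) (Scheme.ProEt.topology X)

/-- `j⁻¹` on pro-étale sheaves of modules, as a restriction. -/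
noncomputable abbrev restrPMod : EtModW.ModP Λ X ⥤ EtModW.ModP Λ U :=
  (ProEtS.compP j).sheafPushforwardContinuous (ModuleCat.{u + 1} Λ) (Scheme.ProEt.topology U) (Scheme.ProEt.topology X)

/-- `j_! ⊣ j⁻¹`. -/
noncomputable abbrev extRestrAdj : extPMod Λ j ⊣ restrPMod Λ j :=
  (ProEtS.compP j).sheafAdjunctionContinuous (ModuleCat.{u + 1} Λ) (Scheme.ProEt.topology U) (Scheme.ProEt.topology X)

/-- `i⁻¹` on pro-étale sheaves of modules. -/
noncomputable abbrev pullPMod : EtModW.ModP Λ X ⥤ EtModW.ModP Λ Z :=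
  (ProEtS.bcP i).sheafPullback (ModuleCat.{u + 1} Λ) (Scheme.ProEt.topology X) (Scheme.ProEt.topology Z)

/-- `i⁻¹ ⊣ i_*`. -/
noncomputable abbrev pullPushAdj : pullPMod Λ i ⊣ pushPMod Λ i :=
  (ProEtS.bcP i).sheafAdjunctionContinuous (ModuleCat.{u + 1} Λ) (Scheme.ProEt.topology X) (Scheme.ProEt.topology Z)

omit [QuasiCompact j] [IsClosedImmersion i] [ProEtS.PCont i] [ProEtS.PCont j] in
theorem cmpG_comp_counit (F : EtModW.ModP Λ X) :
    cmpG Λ (ProEtS.compP j) (Scheme.ProEt.topology U) (Scheme.ProEt.topology X) ((restrPMod Λ j).obj F) ≫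
        (sheafCompose (Scheme.ProEt.topology X) (UF Λ)).map ((extRestrAdj Λ j).counit.app F) =
      (ProEtS.extZeroPAdj j).counit.app ((sheafCompose (Scheme.ProEt.topology X) (UF Λ)).obj F) := by
  apply ((ProEtS.extZeroPAdj j).homEquiv _ _).injective
  refine (homEquiv_cmpG Λ (ProEtS.compP j) (Scheme.ProEt.topology U) (Scheme.ProEt.topology X) _ _ _).trans ?_
  refine Eq.trans ?_ (((ProEtS.extZeroPAdj j).homEquiv_unit (f := _)).trans
    ((ProEtS.extZeroPAdj j).right_triangle_components ((sheafCompose (Scheme.ProEt.topology X) (UF Λ)).obj F))).symm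
  exact ((sheafCompose (Scheme.ProEt.topology U) (UF Λ)).map_comp _ _).symm.trans
    ((congrArg _ ((extRestrAdj Λ j).right_triangle_components F)).trans
      ((sheafCompose (Scheme.ProEt.topology U) (UF Λ)).map_id _))

theorem shortExact (hc : Set.range j.base = (Set.range i.base)ᶜ) (F : EtModW.ModP Λ X) :
    ∃ h : (extRestrAdj Λ j).counit.app F ≫ (pullPushAdj Λ i).unit.app F = 0,
      (ShortComplex.mk _ _ h).ShortExact := by
  let U₀ := sheafCompose (Scheme.ProEt.topology X) (UF Λ)
  let A := U₀.obj F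
  let RF := (restrPMod Λ j).obj F
  obtain ⟨h0, hS⟩ := WCSiteLib.shortExact i j hc A
  let c₁ : (ProEtS.extZeroP j).obj ((sheafCompose (Scheme.ProEt.topology U) (UF Λ)).obj RF) ⟶ U₀.obj ((extPMod Λ j).obj RF) :=
    cmpG Λ (ProEtS.compP j) (Scheme.ProEt.topology U) (Scheme.ProEt.topology X) RF
  haveI : IsIso c₁ := isIso_cmpG Λ _ _ _ RF
  let c₂ : (ProEtS.pullP i).obj A ⟶ (sheafCompose (Scheme.ProEt.topology Z) (UF Λ)).obj ((pullPMod Λ i).obj F) :=
    cmpG Λ (ProEtS.bcP i) (Scheme.ProEt.topology X) (Scheme.ProEt.topology Z) F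
  haveI : IsIso c₂ := isIso_cmpG Λ _ _ _ F
  have e₁ : c₁ ≫ U₀.map ((extRestrAdj Λ j).counit.app F) = (ProEtS.extZeroPAdj j).counit.app A :=
    cmpG_comp_counit Λ j F
  have e₂ : (ProEtS.pullPushAdjP i).unit.app A ≫ (ProEtS.pushP i).map c₂ = U₀.map ((pullPushAdj Λ i).unit.app F) :=
    (Adjunction.homEquiv_unit (adj := ProEtS.pullPushAdjP i) (f := c₂)).symm.trans (Equiv.apply_symm_apply _ _)
  haveI : U₀.Faithful := inferInstance
  haveI := sheafU_preservesFiniteLimits Λ (Scheme.ProEt.topology X)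
  haveI := sheafU_preservesFiniteColimits Λ (Scheme.ProEt.topology X)
  haveI : U₀.PreservesZeroMorphisms := inferInstance
  have hz : (extRestrAdj Λ j).counit.app F ≫ (pullPushAdj Λ i).unit.app F = 0 := by
    apply U₀.map_injective
    rw [U₀.map_comp, U₀.map_zero, ← e₂]
    refine (cancel_epi c₁).1 ?_
    rw [← Category.assoc, e₁, comp_zero]
    erw [reassoc_of% h0]
    exact zero_comp
  refine ⟨hz, ?_⟩
  let S := ShortComplex.mk _ _ hz
  let e : ShortComplex.mk _ _ h0 ≅ S.map U₀ :=
    ShortComplex.isoMk (asIso c₁) (Iso.refl A) ((ProEtS.pushP i).mapIso (asIso c₂))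
      (by show c₁ ≫ U₀.map ((extRestrAdj Λ j).counit.app F) = _ ≫ 𝟙 A
          rw [e₁, Category.comp_id])
      (by show 𝟙 A ≫ U₀.map ((pullPushAdj Λ i).unit.app F) = _ ≫ (ProEtS.pushP i).map c₂
          rw [← e₂, Category.id_comp])
  have hM : (S.map U₀).ShortExact := ShortComplex.shortExact_of_iso e hS
  haveI := hM.mono_f
  haveI := hM.epi_g
  exact ShortComplex.ShortExact.mk' ((ShortComplex.exact_map_iff_of_faithful S U₀).1 hM.exact)
    (U₀.mono_of_mono_map (f := S.f) hM.mono_f) (U₀.epi_of_epi_map (f := S.g) hM.epi_g)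

omit [IsClosedImmersion i] [QuasiCompact j] [ProEtS.PCont i] in
/-- Restriction along an open immersion is the pullback. -/
noncomputable def restrPullIso : restrPMod Λ j ≅ pullPMod Λ j :=
  ((WCSiteLib.compBcAdj j).sheafPushforwardContinuous (Scheme.ProEt.topology U) (Scheme.ProEt.topology X)).leftAdjointUniq
    (pullPushAdj Λ j)

end Mod

end Groth.Agent.ProEtRecollLib
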