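import Groth.Agent.ProEtRecollLib.Main
import Groth.Agent.EpsLib.LocConstDescent
import Groth.Agent.EtShLib.AdicP
import Groth.Agent.EtShLib.StrataTop

/-! Pro-étale sheaves that are classical on the strata of a stratification are classical. -/

set_option autoImplicit false
set_option linter.unusedSectionVars false
set_option linter.style.haveILetI false
set_option backward.isDefEq.respectTransparency false
set_option synthInstance.maxHeartbeats 400000
set_option maxHeartbeats 1000000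
universe u

open CategoryTheory CategoryTheory.Limits AlgebraicGeometry Opposite

namespace Groth.Agent.ProEtRecollLib

open EpsLib

variable {Λ : Type (u + 1)} [CommRing Λ] [∀ T : Scheme.{u}, ProEtS.EpsCont T]

theorem pCont_inst {X Y : Scheme.{u}} (f : X ⟶ Y) : ProEtS.PCont f := Groth.Agent.S0730.result f

attribute [local instance] pCont_inst jpCont

/-- Being a pullback from the étale site. -/
def EI {X : Scheme.{u}} (F : EtModW.ModP Λ X) : Prop :=
  ∃ E : EtModW.Mod Λ X, Nonempty ((EtModW.epsPullMod Λ X).obj E ≅ F)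

theorem EI.of_iso {X : Scheme.{u}} {F G : EtModW.ModP Λ X} (e : F ≅ G) (h : EI F) : EI G := by
  obtain ⟨E, ⟨i⟩⟩ := h
  exact ⟨E, ⟨i ≪≫ e⟩⟩

theorem EI.pull {X Y : Scheme.{u}} (f : Y ⟶ X) {F : EtModW.ModP Λ X} (h : EI F) : EI ((pullPMod Λ f).obj F) := by
  obtain ⟨E, ⟨i⟩⟩ := h
  obtain ⟨e⟩ := EtShLib.nonempty_epsPull_pull f E
  exact ⟨_, ⟨e ≪≫ (pullPMod Λ f).mapIso i⟩⟩

variable (Λ) in
/-- Pullback of pro-étale sheaves along a composite. -/
noncomputable def pullCompIso {A B C : Scheme.{u}} (a : A ⟶ B) (b : B ⟶ C) (c : A ⟶ C) (h : c = a ≫ b) :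
    pullPMod Λ b ⋙ pullPMod Λ a ≅ pullPMod Λ c :=
  let k : ProEtS.bcP c ≅ ProEtS.bcP b ⋙ ProEtS.bcP a := MorphismProperty.Over.pullbackComp a b c h
  let e : pushPMod Λ c ≅ pushPMod Λ a ⋙ pushPMod Λ b :=
    NatIso.ofComponents (fun N => (fullyFaithfulSheafToPresheaf _ _).preimageIso
      (NatIso.ofComponents (fun W => N.obj.mapIso (k.app W.unop).op.symm) fun {W W'} g => by
        show N.obj.map ((ProEtS.bcP c).map g.unop).op ≫ N.obj.map (k.inv.app W'.unop).op =
          N.obj.map (k.inv.app W.unop).op ≫ N.obj.map ((ProEtS.bcP a).map ((ProEtS.bcP b).map g.unop)).op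
        rw [← Functor.map_comp, ← Functor.map_comp, ← op_comp, ← op_comp]
        exact congrArg (fun t => N.obj.map (Quiver.Hom.op t)) (k.inv.naturality g.unop).symm))
      (fun {N N'} φ => by
        refine Sheaf.hom_ext ?_
        ext W : 2
        exact (φ.hom.naturality (k.inv.app W.unop).op).symm)
  Adjunction.leftAdjointUniq (((pullPushAdj Λ b).comp (pullPushAdj Λ a)).ofNatIsoRight e.symm) (pullPushAdj Λ c)

theorem ei_ext {U X : Scheme.{u}} (j : U ⟶ X) [IsOpenImmersion j] {G : EtModW.ModP Λ U} (h : EI G) :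
    EI ((extPMod Λ j).obj G) := by
  obtain ⟨E, ⟨i⟩⟩ := h
  haveI : (compEt j).IsContinuous U.smallEtaleTopology X.smallEtaleTopology := EtShriek.jCont_of_mono j
  exact ⟨_, ⟨(extEpsIso Λ j).symm.app E ≪≫ (extPMod Λ j).mapIso i⟩⟩

theorem ei_push {Z X : Scheme.{u}} (i : Z ⟶ X) [IsClosedImmersion i] {G : EtModW.ModP Λ Z} (h : EI G) :
    EI ((pushPMod Λ i).obj G) := by
  obtain ⟨E, ⟨e⟩⟩ := h
  haveI : QuasiCompact i := inferInstance
  haveI : QuasiSeparated i := inferInstance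
  haveI := isIso_pushCmpMod Λ i E
  exact ⟨_, ⟨asIso (pushCmpMod Λ i E) ≪≫ (pushPMod Λ i).mapIso e⟩⟩

theorem ei_of_open_closed {X Z U : Scheme.{u}} (j : U ⟶ X) [IsOpenImmersion j] [QuasiCompact j]
    (i : Z ⟶ X) [IsClosedImmersion i] (hc : Set.range j.base = (Set.range i.base)ᶜ) (F : EtModW.ModP Λ X)
    (hj : EI ((pullPMod Λ j).obj F)) (hi : EI ((pullPMod Λ i).obj F)) : EI F := by
  obtain ⟨h0, hS⟩ := shortExact Λ i j hc F
  obtain ⟨E1, e1⟩ := ei_ext j (hj.of_iso ((restrPullIso Λ j).app F).symm)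
  obtain ⟨E3, e3⟩ := ei_push i hi
  obtain ⟨E, e⟩ := (epsPullMod_weakSerre Λ X).2 _ hS ⟨E1, e1⟩ ⟨E3, e3⟩
  exact ⟨E, e⟩

theorem isZero_of_isEmpty {X : Scheme.{u}} [IsEmpty ↥X] (F : EtModW.ModP Λ X) : IsZero F := by
  rw [IsZero.iff_id_eq_zero]
  apply Sheaf.hom_ext
  ext V x
  haveI : IsEmpty ↥V.unop.left := Function.isEmpty (β := ↥X) fun z => V.unop.hom.base z
  exact WCSiteLib.sect_eq_of_isEmpty ((sheafCompose (Scheme.ProEt.topology X) (UF Λ)).obj F) V.unop _ _

theorem ei_of_isEmpty {X : Scheme.{u}} [IsEmpty ↥X] (F : EtModW.ModP Λ X) : EI F :=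
  ⟨(epsPushMod Λ X).obj F, ⟨(isZero_of_isEmpty _).iso (isZero_of_isEmpty F)⟩⟩

/-- Strata saturated for a family of opens, on which the sheaf is classical. -/
def HasStrata {X : Scheme.{u}} {κ : Type} (W : κ → X.Opens) (F : EtModW.ModP Λ X) : Prop :=
  ∃ (m : ℕ) (T : Fin m → Scheme.{u}) (g : ∀ l, T l ⟶ X), (∀ l, IsImmersion (g l)) ∧
    (∀ x : X, ∃ l, x ∈ Set.range (g l).base) ∧
    (∀ x y : X, (∀ k, x ∈ W k ↔ y ∈ W k) → ∀ l, x ∈ Set.range (g l).base → y ∈ Set.range (g l).base) ∧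
    ∀ l, EI ((pullPMod Λ (g l)).obj F)

theorem hasStrata_pull {X Y : Scheme.{u}} {κ κ' : Type} (f : Y ⟶ X) {W : κ → X.Opens} {W' : κ' → Y.Opens}
    (hW : ∀ x y : Y, (∀ k, x ∈ W' k ↔ y ∈ W' k) → ∀ k, f.base x ∈ W k ↔ f.base y ∈ W k)
    {F : EtModW.ModP Λ X} (h : HasStrata W F) : HasStrata W' ((pullPMod Λ f).obj F) := by
  obtain ⟨m, T, g, hg, hcov, hsat, hei⟩ := h
  have hr : ∀ l, Set.range (pullback.snd (g l) f).base = f.base ⁻¹' Set.range (g l).base := fun l =>
    Scheme.Pullback.range_snd _ _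
  refine ⟨m, fun l => pullback (g l) f, fun l => pullback.snd (g l) f, fun l => ?_, fun x => ?_, fun x y hxy l hx => ?_,
    fun l => ?_⟩
  · haveI := hg l
    infer_instance
  · obtain ⟨l, hl⟩ := hcov (f.base x)
    exact ⟨l, by rw [hr]; exact hl⟩
  · rw [hr] at hx ⊢
    exact hsat _ _ (hW x y hxy) l hx
  · exact ((hei l).pull (pullback.fst (g l) f)).of_iso
      ((pullCompIso Λ (pullback.fst (g l) f) (g l) _ rfl).app F ≪≫
        ((pullCompIso Λ (pullback.snd (g l) f) f _ pullback.condition).app F).symm)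

theorem quasiCompact_preimage_ι {X Y : Scheme.{u}} (f : Y ⟶ X) (W : X.Opens) (h : QuasiCompact W.ι) :
    QuasiCompact (f ⁻¹ᵁ W).ι :=
  MorphismProperty.of_isPullback (P := @QuasiCompact) (isPullback_morphismRestrict f W) h

theorem quasiCompact_bot_ι (X : Scheme.{u}) : QuasiCompact (⊥ : X.Opens).ι := by
  haveI : IsEmpty ↥((⊥ : X.Opens).toScheme) := ⟨fun x => x.2⟩
  exact ⟨fun U _ _ => (Set.toFinite _).isCompact⟩

theorem ei_of_hasStrata : ∀ (n : ℕ) (X : Scheme.{u}) (W : Fin n → X.Opens) (F : EtModW.ModP Λ X),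
    (∀ k, QuasiCompact (W k).ι) → HasStrata W F → EI F := by
  intro n
  induction n with
  | zero =>
    intro X W F _ h
    rcases isEmpty_or_nonempty ↥X with hX | ⟨⟨x⟩⟩
    · exact ei_of_isEmpty F
    obtain ⟨m, T, g, hg, hcov, hsat, hei⟩ := h
    obtain ⟨l, hl⟩ := hcov x
    obtain ⟨R, r, hr, hRed, hrr⟩ := EtShLib.exists_reduced_immersion (X := X) (E := Set.univ) isClosed_univ.isLocallyClosed
    haveI := hr
    haveI := hRed
    haveI : IsClosedImmersion r := IsClosedImmersion.of_isPreimmersion r (by rw [hrr]; exact isClosed_univ)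
    haveI := hg l
    obtain ⟨t, ht⟩ := EtShLib.exists_lift_immersion (g l) r fun y _ => hsat x y (fun k => k.elim0) l hl
    haveI := quasiCompact_bot_ι X
    haveI : IsEmpty ↥((⊥ : X.Opens).toScheme) := ⟨fun x => x.2⟩
    refine ei_of_open_closed (⊥ : X.Opens).ι r ?_ F (ei_of_isEmpty _)
      (((hei l).pull t).of_iso ((pullCompIso Λ t (g l) r ht.symm).app F))
    rw [hrr, Scheme.Opens.range_ι, Set.compl_univ]
    rfl
  | succ n ih =>
    intro X W F hW h
    let O := W (Fin.last n)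
    haveI : QuasiCompact O.ι := hW _
    obtain ⟨Z, z, hz, -, hzr⟩ := EtShLib.exists_reduced_immersion (X := X) (E := (O : Set X)ᶜ)
      O.isOpen.isClosed_compl.isLocallyClosed
    haveI := hz
    haveI : IsClosedImmersion z := IsClosedImmersion.of_isPreimmersion z (by rw [hzr]; exact O.isOpen.isClosed_compl)
    have key : ∀ {Y : Scheme.{u}} (f : Y ⟶ X), (∀ x y : Y, f.base x ∈ O ↔ f.base y ∈ O) →
        EI ((pullPMod Λ f).obj F) := fun {Y} f hf => by
      refine ih Y (fun k => f ⁻¹ᵁ W k.castSucc) _ (fun k => quasiCompact_preimage_ι f _ (hW _))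
        (hasStrata_pull f (fun x y hxy k => ?_) h)
      induction k using Fin.lastCases with
      | last => exact hf x y
      | cast k => exact hxy k
    refine ei_of_open_closed O.ι z ?_ F (key _ fun x y => iff_of_true x.2 y.2) (key _ fun x y => ?_)
    · rw [hzr, compl_compl, Scheme.Opens.range_ι]
    · have H : ∀ w : Z, z.base w ∉ O := fun w => by
        have : z.base w ∈ Set.range z.base := ⟨w, rfl⟩
        rw [hzr] at this
        exact this
      exact iff_of_false (H x) (H y)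

theorem quasiCompact_ι_of_retrocompact {X : Scheme.{u}} (U : X.Opens) (h : IsRetrocompact (U : Set X)) :
    QuasiCompact U.ι :=
  quasiCompact_iff_isSpectralMap.mpr (IsRetrocompact_iff_isSpectralMap_subtypeVal.mp h)

theorem exists_saturating {X : Scheme.{u}} {s : Set X} (hs : Topology.IsConstructible s) :
    ∃ (κ : Type) (_ : Finite κ) (W : κ → X.Opens), (∀ k, QuasiCompact (W k).ι) ∧
      ∀ x y : X, (∀ k, x ∈ W k ↔ y ∈ W k) → (x ∈ s ↔ y ∈ s) := by
  induction hs using Topology.IsConstructible.empty_union_induction with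
  | open_retrocompact U hU hUc =>
    exact ⟨Unit, inferInstance, fun _ => ⟨U, hU⟩, fun _ => quasiCompact_ι_of_retrocompact ⟨U, hU⟩ hUc,
      fun x y h => h ()⟩
  | union s hs t ht h1 h2 =>
    obtain ⟨κ, _, W, hW, hWs⟩ := h1
    obtain ⟨κ', _, W', hW', hWt⟩ := h2
    refine ⟨κ ⊕ κ', inferInstance, Sum.elim W W', fun k => Sum.rec hW hW' k, fun x y h => ?_⟩
    exact or_congr (hWs x y fun k => h (.inl k)) (hWt x y fun k => h (.inr k))
  | compl s hs h1 =>
    obtain ⟨κ, hκ, W, hW, hWs⟩ := h1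
    exact ⟨κ, hκ, W, hW, fun x y h => not_congr (hWs x y h)⟩

theorem ei_of_partition {X : Scheme.{u}} {m : ℕ} (T : Fin m → Scheme.{u}) (g : ∀ l, T l ⟶ X)
    (hg : ∀ l, IsImmersion (g l)) (hc : ∀ l, Topology.IsConstructible (Set.range (g l).base))
    (hcov : ∀ x : X, ∃ l, x ∈ Set.range (g l).base) (F : EtModW.ModP Λ X)
    (h : ∀ l, EI ((pullPMod Λ (g l)).obj F)) : EI F := by
  choose κ hκ W hW hsat using fun l => exists_saturating (hc l)
  obtain ⟨n, ⟨e⟩⟩ := Finite.exists_equiv_fin (Σ l, κ l)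
  refine ei_of_hasStrata n X (fun k => W (e.symm k).1 (e.symm k).2) F (fun k => hW _ _)
    ⟨m, T, g, hg, hcov, fun x y hxy l hx => (hsat l x y fun k => ?_).1 hx, h⟩
  exact (show ∀ p, p = (⟨l, k⟩ : Σ l, κ l) → (x ∈ W p.1 p.2 ↔ y ∈ W p.1 p.2) → (x ∈ W l k ↔ y ∈ W l k) from
    fun p hp hh => by subst hp; exact hh) _ (e.symm_apply_apply _) (hxy (e ⟨l, k⟩))

theorem ei_of_affineLocal {X : Scheme.{u}} (F : EtModW.ModP Λ X)
    (h : ∀ U : X.Opens, IsAffineOpen U → EI ((pullPMod Λ U.ι).obj F)) : EI F := by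
  let ι := {U : X.Opens // IsAffineOpen U}
  let W : ι → X.ProEt := fun U => WCSiteLib.openObj (ProEtS.topP X) U.1
  have hcovP : EtModW.CoversP W := by
    have hmem : Sieve.ofArrows W (fun U => WCSiteLib.openι (ProEtS.topP X) U.1) ∈
        Scheme.ProEt.topology X (ProEtS.topP X) :=
      ProEtPtsLib.ofArrows_mem_of_mem _ _ (Scheme.zariskiPrecoverage_le_propQCPrecoverage _
        ((Scheme.ofArrows_mem_precoverage_iff _).2
          ⟨fun x => by
            obtain ⟨A, hA, hxA, -⟩ := exists_isAffineOpen_mem_and_subset (x := x) (U := (⊤ : X.Opens)) trivial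
            exact ⟨⟨A, hA⟩, ⟨x, hxA⟩, rfl⟩,
          fun U => inferInstanceAs (IsOpenImmersion U.1.ι)⟩))
    show Sieve.ofArrows (X := ProEtS.topP X) W _ ∈ _
    convert hmem using 3
    rename_i U
    exact WCSiteLib.hom_ext_und (Category.comp_id _)
  refine ⟨_, ⟨@asIso _ _ _ _ _ (isIso_counit_of_sysCont (sysCont_of_local ⟨ι, W, hcovP, fun U => ?_⟩))⟩⟩
  let j := U.1.ι
  obtain ⟨E, ⟨e⟩⟩ := ei_ext j ((h U.1 U.2).of_iso ((restrPullIso Λ j).app F).symm)
  let H := (extPMod Λ j).obj ((restrPMod Λ j).obj F)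
  let ε : H ⟶ F := (extRestrAdj Λ j).counit.app F
  refine ⟨H, (sysCont_epsPullMod E).of_iso e.symm, ⟨?_⟩⟩
  have happ : ∀ (P : (Over (W U))ᵒᵖ), IsIso ((((Scheme.ProEt.topology X).overPullback (ModuleCat.{u + 1} Λ) (W U)).map ε).hom.app P) := by
    intro P
    show IsIso (ε.hom.app (op P.unop.left))
    have hP : Set.range P.unop.left.hom.base ⊆ Set.range j.base := by
      rw [show P.unop.left.hom = P.unop.hom.left ≫ (W U).hom from (MorphismProperty.Over.w P.unop.hom).symm]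
      rintro _ ⟨x, rfl⟩
      exact ⟨P.unop.hom.left.base x, rfl⟩
    let U₀ := sheafCompose (Scheme.ProEt.topology X) (UF Λ)
    let c₁ := cmpG Λ (ProEtS.compP j) (Scheme.ProEt.topology U.1.toScheme) (Scheme.ProEt.topology X) ((restrPMod Λ j).obj F)
    haveI : IsIso c₁ := isIso_cmpG Λ _ _ _ _
    have e₁ := cmpG_comp_counit Λ j F
    haveI : IsIso ((UF Λ).map (ε.hom.app (op P.unop.left))) := by
      have hb := WCSiteLib.counit_bijective j (U₀.obj F) hP
      haveI := (ConcreteCategory.isIso_iff_bijective _).2 hb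
      haveI : IsIso (c₁.hom.app (op P.unop.left)) :=
        inferInstanceAs (IsIso (((sheafToPresheaf _ _).map c₁).app (op P.unop.left)))
      have hcomp := congrArg (fun t : _ ⟶ U₀.obj F => t.hom.app (op P.unop.left)) e₁
      exact IsIso.of_isIso_fac_left (f := c₁.hom.app (op P.unop.left)) (g := (UF Λ).map (ε.hom.app (op P.unop.left)))
        (h := ((ProEtS.extZeroPAdj j).counit.app (U₀.obj F)).hom.app (op P.unop.left)) hcomp
    exact isIso_of_reflects_iso _ (UF Λ)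
  haveI : IsIso ((sheafToPresheaf _ _).map (((Scheme.ProEt.topology X).overPullback (ModuleCat.{u + 1} Λ) (W U)).map ε)) :=
    @NatIso.isIso_of_isIso_app _ _ _ _ _ _ _ happ
  haveI := isIso_of_reflects_iso (((Scheme.ProEt.topology X).overPullback (ModuleCat.{u + 1} Λ) (W U)).map ε)
    (sheafToPresheaf _ _)
  exact (asIso (((Scheme.ProEt.topology X).overPullback (ModuleCat.{u + 1} Λ) (W U)).map ε)).symm

theorem isFTLocConst_of_iso {X : Scheme.{u}} {E E' : EtModW.Mod Λ X} (e : E ≅ E')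
    (h : EtModW.IsFTLocConst Λ E) : EtModW.IsFTLocConst Λ E' := by
  obtain ⟨ι, U, hU, hM⟩ := h
  refine ⟨ι, U, hU, fun i => ?_⟩
  obtain ⟨M, a, b, c, ⟨i'⟩⟩ := hM i
  exact ⟨M, a, b, c, ⟨((X.smallEtaleTopology.overPullback (ModuleCat.{u + 1} Λ) (U i)).mapIso e).symm ≪≫ i'⟩⟩

theorem constructibleP_iff_strata {X : Scheme.{u}} (F : EtModW.ModP Λ X) :
    (∃ E : EtModW.Mod Λ X, EtModW.IsConstructible Λ E ∧ Nonempty ((EtModW.epsPullMod Λ X).obj E ≅ F)) ↔
      ∀ U : X.Opens, IsAffineOpen U →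
        ∃ (m : ℕ) (T : Fin m → Scheme.{u}) (g : ∀ i, T i ⟶ X),
          (∀ i, IsImmersion (g i)) ∧
          (∀ i, Topology.IsConstructible ((Subtype.val : ↥(U : Set X) → X) ⁻¹' Set.range (fun t => (g i).base t))) ∧
          Pairwise (fun i j => Disjoint (Set.range (fun t => (g i).base t)) (Set.range (fun t => (g j).base t))) ∧
          (⋃ i, Set.range (fun t => (g i).base t)) = (U : Set X) ∧
          ∀ i, ∃ E : EtModW.Mod Λ (T i), EtModW.IsFTLocConst Λ E ∧
            Nonempty ((EtModW.epsPullMod Λ (T i)).obj E ≅ (pullPMod Λ (g i)).obj F) := by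
  constructor
  · rintro ⟨E, hE, ⟨e⟩⟩ U hU
    obtain ⟨m, T, g, h1, h2, h3, h4, h5⟩ := hE U hU
    refine ⟨m, T, g, h1, h2, h3, h4, fun i => ?_⟩
    obtain ⟨e'⟩ := EtShLib.nonempty_epsPull_pull (g i) E
    exact ⟨_, h5 i, ⟨e' ≪≫ (pullPMod Λ (g i)).mapIso e⟩⟩
  intro h
  have hF : EI F := ei_of_affineLocal F fun U hU => by
    obtain ⟨m, T, g, h1, h2, -, h4, h5⟩ := h U hU
    have hr : ∀ i, Set.range (g i).base ⊆ Set.range U.ι.base := fun i x hx => by
      rw [Scheme.Opens.range_ι, ← h4]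
      exact Set.mem_iUnion.2 ⟨i, hx⟩
    let g' := fun i => IsOpenImmersion.lift U.ι (g i) (hr i)
    have hg' : ∀ i, g' i ≫ U.ι = g i := fun i => IsOpenImmersion.lift_fac _ _ _
    have hrg : ∀ i, Set.range (g' i).base = (Subtype.val : ↥(U : Set X) → X) ⁻¹' Set.range (g i).base := fun i => by
      ext x
      constructor
      · rintro ⟨t, rfl⟩
        exact ⟨t, congrArg (fun f : T i ⟶ X => f.base t) (hg' i).symm⟩
      · rintro ⟨t, ht⟩
        refine ⟨t, Subtype.ext ?_⟩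
        exact (congrArg (fun f : T i ⟶ X => f.base t) (hg' i)).trans ht
    refine ei_of_partition T g' (fun i => ?_) (fun i => by rw [hrg]; exact h2 i) (fun x => ?_) _ fun i => ?_
    · haveI : IsImmersion (g' i ≫ U.ι) := by rw [hg']; exact h1 i
      exact IsImmersion.of_comp (g' i) U.ι
    · obtain ⟨i, hi⟩ := Set.mem_iUnion.1 (show U.ι.base x ∈ ⋃ i, Set.range (fun t => (g i).base t) by
        rw [h4]; exact x.2)
      exact ⟨i, by rw [hrg]; exact hi⟩
    · obtain ⟨E, -, e⟩ := h5 i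
      exact (show EI ((pullPMod Λ (g i)).obj F) from ⟨E, e⟩).of_iso
        ((pullCompIso Λ (g' i) U.ι (g i) (hg' i).symm).app F).symm
  obtain ⟨E, ⟨e⟩⟩ := hF
  refine ⟨E, fun U hU => ?_, ⟨e⟩⟩
  obtain ⟨m, T, g, h1, h2, h3, h4, h5⟩ := h U hU
  refine ⟨m, T, g, h1, h2, h3, h4, fun i => ?_⟩
  obtain ⟨Ei, hEi, ⟨ei⟩⟩ := h5 i
  obtain ⟨e'⟩ := EtShLib.nonempty_epsPull_pull (g i) E
  obtain ⟨_, _⟩ := epsPullMod_fullyFaithful (Λ := Λ) (X := T i)
  exact isFTLocConst_of_iso
    (((EtModW.epsPullMod Λ (T i)).preimageIso (e' ≪≫ (pullPMod Λ (g i)).mapIso e ≪≫ ei.symm)).symm) hEi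

end Groth.Agent.ProEtRecollLib
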